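import Groth.Agent.Lib.EtRamH7.Basic
import Mathlib.RingTheory.DiscreteValuationRing.TFAE
import Mathlib.FieldTheory.Separable
import Mathlib.RingTheory.Localization.Ideal
import Mathlib.RingTheory.Adjoin.Polynomial.Basic
import Mathlib.FieldTheory.IntermediateField.Adjoin.Basic
import Mathlib.FieldTheory.SeparableClosure

/-!
A radical of a unit or of a uniformiser, of degree prime to the residue characteristic, gives a tamely
ramified extension.
-/

universe u

open IsLocalRing Polynomial

namespace Groth.Agent.KummerTame25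

/-- The valuation ring over a generated local ring with principal maximal ideal. -/
theorem exists_repr {A : Type u} [CommRing A] [IsNoetherianRing A] {L : Type u} [Field L] [Algebra A L]
    (t : L) (hgen : ∀ x : L, ∃ a ∈ Algebra.adjoin A ({t} : Set L), ∃ b ∈ Algebra.adjoin A ({t} : Set L), b ≠ 0 ∧ x * b = a)
    (V : ValuationSubring L) (hA : ∀ a, algebraMap A L a ∈ V) (htV : t ∈ V)
    (ϖ : L) (hϖ0 : ϖ ≠ 0) (hϖmem : ϖ ∈ Algebra.adjoin A ({t} : Set L)) (hϖV : V.valuation ϖ < 1)
    (hprin : ∀ x ∈ Algebra.adjoin A ({t} : Set L), V.valuation x < 1 →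
      ∃ s ∈ Algebra.adjoin A ({t} : Set L), V.valuation s = 1 ∧
        ∃ y ∈ Algebra.adjoin A ({t} : Set L), s * x = y * ϖ)
    (x : L) (hx : x ∈ V) :
    ∃ a ∈ Algebra.adjoin A ({t} : Set L), ∃ s ∈ Algebra.adjoin A ({t} : Set L), V.valuation s = 1 ∧ x * s = a := by
  classical
  let R0 := Algebra.adjoin A ({t} : Set L)
  have hR0V : ∀ z ∈ R0, z ∈ V := fun z hz => by
    induction hz using Algebra.adjoin_induction with
    | mem z hz => rw [Set.mem_singleton_iff.mp hz]; exact htV
    | algebraMap a => exact hA a
    | add a b _ _ ha hb => exact add_mem ha hb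
    | mul a b _ _ ha hb => exact mul_mem ha hb
  let φ : R0 →+* V := RingHom.codRestrict R0.val.toRingHom V fun z => hR0V _ z.2
  let P : Ideal R0 := (maximalIdeal V).comap φ
  haveI : P.IsPrime := Ideal.comap_isPrime φ _
  have hP : ∀ z : R0, z ∈ P ↔ V.valuation (z : L) < 1 := fun z => V.valuation_lt_one_iff (φ z)
  have hone : ∀ z : R0, z ∉ P ↔ V.valuation (z : L) = 1 := fun z => by
    rw [hP]
    constructor
    · exact fun h => le_antisymm ((V.valuation_le_one_iff _).mpr (hR0V _ z.2)) (not_lt.mp h)
    · exact fun h h' => h'.ne h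
  haveI : IsNoetherianRing R0 := by
    haveI : Algebra.FiniteType A R0 := ⟨(Subalgebra.fg_top R0).mpr ⟨{t}, by rw [Finset.coe_singleton]⟩⟩
    exact Algebra.FiniteType.isNoetherianRing A R0
  let R1 := Localization.AtPrime P
  haveI : IsNoetherianRing R1 := IsLocalization.isNoetherianRing P.primeCompl R1 inferInstance
  haveI : IsDomain R1 := IsLocalization.isDomain_localization P.primeCompl_le_nonZeroDivisors
  let ϖ0 : R0 := ⟨ϖ, hϖmem⟩
  have hmax : maximalIdeal R1 = Ideal.span {algebraMap R0 R1 ϖ0} := by
    refine le_antisymm ?_ ((Ideal.span_singleton_le_iff_mem _).mpr ?_)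
    · rw [← Localization.AtPrime.map_eq_maximalIdeal, Ideal.map_le_iff_le_comap]
      intro z hz
      obtain ⟨s, hs, hs1, y, hy, hsy⟩ := hprin z z.2 ((hP z).mp hz)
      have hu : IsUnit (algebraMap R0 R1 ⟨s, hs⟩) :=
        IsLocalization.map_units R1 (⟨⟨s, hs⟩, (hone _).mpr hs1⟩ : P.primeCompl)
      rw [Ideal.mem_comap, ← Ideal.unit_mul_mem_iff_mem _ hu, ← map_mul,
        show (⟨s, hs⟩ : R0) * z = ⟨y, hy⟩ * ϖ0 from Subtype.ext hsy, map_mul]
      exact Ideal.mul_mem_left _ _ (Ideal.mem_span_singleton_self _)
    · rw [IsLocalization.AtPrime.to_map_mem_maximal_iff R1 P]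
      exact (hP ϖ0).mpr hϖV
  have hne : ¬ IsField R1 := by
    rw [isField_iff_maximalIdeal_eq, hmax, Ideal.span_singleton_eq_bot]
    intro h
    exact hϖ0 (congrArg Subtype.val (IsLocalization.injective R1 P.primeCompl_le_nonZeroDivisors
      (h.trans (map_zero _).symm) : ϖ0 = 0))
  haveI hdvr : IsDiscreteValuationRing R1 :=
    ((IsDiscreteValuationRing.TFAE R1 hne).out 0 4).mpr (show (maximalIdeal R1).IsPrincipal from ⟨⟨_, hmax⟩⟩)
  obtain ⟨a, ha, b, hb, hb0, hab⟩ := hgen x
  rcases ValuationRing.cond (algebraMap R0 R1 ⟨a, ha⟩) (algebraMap R0 R1 ⟨b, hb⟩) with ⟨c, hc | hc⟩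
  all_goals obtain ⟨⟨c0, s⟩, hcs⟩ := IsLocalization.surj P.primeCompl c
  · -- `b = a c`
    have h1 : (a : L) * c0 = b * s := by
      have : (⟨a, ha⟩ : R0) * c0 = ⟨b, hb⟩ * s := IsLocalization.injective R1 P.primeCompl_le_nonZeroDivisors
        (by rw [map_mul, map_mul, ← hc, ← hcs, mul_assoc])
      exact congrArg Subtype.val this
    have ha0 : a ≠ 0 := by
      intro h
      rw [h, zero_mul] at h1
      rcases mul_eq_zero.mp h1.symm with h' | h'
      · exact hb0 h'
      · exact s.2 ((Subtype.ext h' : (s : R0) = 0) ▸ P.zero_mem)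
    have hxc : x * (c0 : L) = (s : R0) := by
      refine mul_right_cancel₀ hb0 ?_
      rw [mul_right_comm, hab, h1, mul_comm]
    have hv : V.valuation (c0 : L) = 1 := by
      refine le_antisymm ((V.valuation_le_one_iff _).mpr (hR0V _ c0.2)) ?_
      have h2 := congrArg V.valuation hxc
      rw [map_mul, (hone _).mp s.2] at h2
      rw [← h2]
      exact mul_le_of_le_one_left' ((V.valuation_le_one_iff _).mpr hx)
    exact ⟨_, (s : R0).2, _, c0.2, hv, hxc⟩
  · -- `a = b c`
    have h1 : (b : L) * c0 = a * s := by
      have : (⟨b, hb⟩ : R0) * c0 = ⟨a, ha⟩ * s := IsLocalization.injective R1 P.primeCompl_le_nonZeroDivisors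
        (by rw [map_mul, map_mul, ← hc, ← hcs, mul_assoc])
      exact congrArg Subtype.val this
    refine ⟨_, c0.2, _, (s : R0).2, (hone _).mp s.2, mul_right_cancel₀ hb0 ?_⟩
    rw [mul_right_comm, hab, ← h1, mul_comm]

variable {A : Type u} [CommRing A] [IsDomain A] [IsDiscreteValuationRing A]
  (K : Type u) [Field K] [Algebra A K] [IsFractionRing A K]
  {L : Type u} [Field L] [Algebra K L] [FiniteDimensional K L]

/-- A single radical. -/
theorem tame_of_radical (t : L) (hgen : IntermediateField.adjoin K {t} = ⊤) {n : ℕ} (hn : 1 ≤ n)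
    (hnu : IsUnit (n : A)) (c : A) (htc : t ^ n = algebraMap K L (algebraMap A K c))
    (hc : IsUnit c ∨ maximalIdeal A = Ideal.span {c}) :
    EtRam.IsTamelyRamified A ((algebraMap K L).comp (algebraMap A K)) := by
  classical
  intro V hV
  letI : Algebra A V := (RingHom.codRestrict _ V hV.1).toAlgebra
  intro _
  letI : Algebra A L := ((algebraMap K L).comp (algebraMap A K)).toAlgebra
  haveI : IsScalarTower A K L := IsScalarTower.of_algebraMap_eq fun _ => rfl
  haveI : IsScalarTower A V L := IsScalarTower.of_algebraMap_eq fun _ => rfl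
  haveI := Groth.Agent.EtRamH7.dvr_of_dominates A K L _ rfl V hV
  have hn0 : n ≠ 0 := by omega
  have htc' : t ^ n = algebraMap A L c := htc
  have hvA : ∀ a : A, V.valuation (algebraMap A L a) ≤ 1 := fun a => (V.valuation_le_one_iff _).mpr (hV.1 a)
  have hvu : ∀ a : A, IsUnit a → V.valuation (algebraMap A L a) = 1 := fun a ha =>
    ((V.valuation_eq_one_iff (algebraMap A V a)).mp (ha.map (algebraMap A V)) :)
  have htV : t ∈ V := by
    rw [← V.valuation_le_one_iff]
    by_contra h
    have := one_lt_pow₀ (not_le.mp h) hn0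
    rw [← map_pow, htc'] at this
    exact this.not_ge (hvA c)
  have hinjAL : Function.Injective (algebraMap A L) :=
    (algebraMap K L).injective.comp (IsFractionRing.injective A K)
  have hmemR : ∀ F : A[X], aeval t F ∈ Algebra.adjoin A ({t} : Set L) := fun F => aeval_mem_adjoin_singleton _ _
  have hR0V : ∀ z ∈ Algebra.adjoin A ({t} : Set L), z ∈ V := fun z hz => by
    induction hz using Algebra.adjoin_induction with
    | mem z hz => rw [Set.mem_singleton_iff.mp hz]; exact htV
    | algebraMap a => exact hV.1 a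
    | add a b _ _ ha hb => exact add_mem ha hb
    | mul a b _ _ ha hb => exact mul_mem ha hb
  have hgen' : ∀ x : L, ∃ a ∈ Algebra.adjoin A ({t} : Set L), ∃ b ∈ Algebra.adjoin A ({t} : Set L), b ≠ 0 ∧ x * b = a := by
    intro x
    have hx : x ∈ Algebra.adjoin K ({t} : Set L) := by
      have h := IntermediateField.adjoin_simple_toSubalgebra_of_isAlgebraic (F := K) (α := t)
        (Algebra.IsAlgebraic.isAlgebraic t)
      rw [hgen, IntermediateField.top_toSubalgebra] at h
      rw [← h]; exact Algebra.mem_top
    obtain ⟨F, rfl⟩ := Algebra.adjoin_singleton_eq_range_aeval K t ▸ hx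
    obtain ⟨b, hb⟩ := IsLocalization.exist_integer_multiples (nonZeroDivisors A) F.support (fun i => F.coeff i)
    choose g hg using hb
    let G : A[X] := ∑ i ∈ F.support.attach, monomial i.1 (g i.1 i.2)
    refine ⟨aeval t G, ?_, algebraMap A L (b : A), Subalgebra.algebraMap_mem _ _, ?_, ?_⟩
    · exact (hmemR G)
    · rw [map_ne_zero_iff]
      · exact nonZeroDivisors.ne_zero b.2
      · exact (algebraMap K L).injective.comp (IsFractionRing.injective A K)
    · show aeval t F * _ = _
      rw [aeval_eq_sum_range' (n := F.natDegree + 1) (Nat.lt_succ_self _), Finset.sum_mul]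
      rw [show aeval t G = ∑ i ∈ F.support.attach, algebraMap A L (g i.1 i.2) * t ^ i.1 by
        simp [G, map_sum, aeval_monomial]]
      rw [← Finset.sum_subset (s₁ := F.support) (fun i hi => Finset.mem_range.mpr
        (Nat.lt_succ_of_le (le_natDegree_of_mem_supp i hi))) (fun i _ hi => by simp [notMem_support_iff.mp hi]),
        ← Finset.sum_attach F.support]
      refine Finset.sum_congr rfl fun i _ => ?_
      rw [IsScalarTower.algebraMap_apply A K L (g i.1 i.2)]
      have := hg i.1 i.2
      rw [show algebraMap A K (g i.1 i.2) = _ from this, Algebra.smul_def, Algebra.smul_def, map_mul,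
        ← IsScalarTower.algebraMap_apply A K L]
      ring
  rcases hc with hu | hm
  · -- a radical of a unit
    obtain ⟨π, hπ⟩ := IsDiscreteValuationRing.exists_irreducible A
    have hπm : π ∈ maximalIdeal A := (mem_maximalIdeal π).mpr hπ.not_isUnit
    have hπ0 : algebraMap A L π ≠ 0 := fun h => hπ.ne_zero
      (hinjAL (h.trans (map_zero _).symm))
    let τ : ResidueField V := residue V ⟨t, htV⟩
    have hev : ∀ F : A[X], residue V ⟨aeval t F, hR0V _ (hmemR F)⟩ =
        aeval τ (F.map (residue A)) := fun F => by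
      have h1 : (⟨aeval t F, hR0V _ (hmemR F)⟩ : V) =
          aeval (⟨t, htV⟩ : V) F := Subtype.ext (by
        show aeval t F = _
        rw [show ((aeval (⟨t, htV⟩ : V) F : V) : L) = algebraMap V L (aeval (⟨t, htV⟩ : V) F) from rfl,
          ← aeval_algebraMap_apply]
        rfl)
      have hcomp : (residue V).comp (algebraMap A V) =
          (algebraMap (ResidueField A) (ResidueField V)).comp (residue A) := rfl
      rw [h1, aeval_def, aeval_def, hom_eval₂, eval₂_map, hcomp]
    have hnk : (n : ResidueField A) ≠ 0 := by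
      rw [← map_natCast (residue A)]; exact (hnu.map _).ne_zero
    have hck : residue A c ≠ 0 := (hu.map _).ne_zero
    have hsepg : (X ^ n - C (residue A c)).Separable := separable_X_pow_sub_C _ hnk hck
    have hτ : aeval τ (X ^ n - C (residue A c)) = 0 := by
      have h := hev (X ^ n - C c)
      rw [Polynomial.map_sub, Polynomial.map_pow, map_X, map_C] at h
      rw [← h, residue_eq_zero_iff, V.valuation_lt_one_iff]
      show V.valuation (aeval t (X ^ n - C c)) < 1
      rw [map_sub, map_pow, aeval_X, aeval_C, htc', sub_self, map_zero]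
      exact zero_lt_one
    have hint : IsIntegral (ResidueField A) τ := ⟨_, monic_X_pow_sub_C _ hn0, hτ⟩
    have hdvd : minpoly (ResidueField A) τ ∣ X ^ n - C (residue A c) := minpoly.dvd _ _ hτ
    have hτsep : IsSeparable (ResidueField A) τ := hsepg.of_dvd hdvd
    obtain ⟨k, hk⟩ := hdvd
    obtain ⟨H, hH⟩ := Polynomial.map_surjective (residue A) residue_surjective (minpoly (ResidueField A) τ)
    obtain ⟨Kp, hKp⟩ := Polynomial.map_surjective (residue A) residue_surjective k
    have hcop : IsCoprime (minpoly (ResidueField A) τ) k := (hk ▸ hsepg).isCoprime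
    have hmap0 : ∀ F : A[X], F.map (residue A) = 0 → ∃ G : A[X], F = C π * G := fun F hF => by
      have : C π ∣ F := by
        rw [C_dvd_iff_dvd_coeff]
        intro i
        rw [← Ideal.mem_span_singleton, ← hπ.maximalIdeal_eq, ← residue_eq_zero_iff, ← coeff_map, hF, coeff_zero]
      obtain ⟨G, hG⟩ := this
      exact ⟨G, hG⟩
    have hprin : ∀ x ∈ Algebra.adjoin A ({t} : Set L), V.valuation x < 1 →
        ∃ s ∈ Algebra.adjoin A ({t} : Set L), V.valuation s = 1 ∧
          ∃ y ∈ Algebra.adjoin A ({t} : Set L), s * x = y * algebraMap A L π := by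
      intro x hx hx1
      obtain ⟨F, rfl⟩ := Algebra.adjoin_singleton_eq_range_aeval A t ▸ hx
      have hF0 : aeval τ (F.map (residue A)) = 0 := by
        rw [← hev, residue_eq_zero_iff, V.valuation_lt_one_iff]; exact hx1
      obtain ⟨q, hq⟩ := minpoly.dvd _ _ hF0
      obtain ⟨Q, hQ⟩ := Polynomial.map_surjective (residue A) residue_surjective q
      obtain ⟨G1, hG1⟩ := hmap0 (Kp * F - (X ^ n - C c) * Q) (by
        rw [Polynomial.map_sub, Polynomial.map_mul, Polynomial.map_mul, hKp, hq, hQ, Polynomial.map_sub,
          Polynomial.map_pow, map_X, map_C, hk]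
        ring)
      refine ⟨aeval t Kp, (hmemR Kp), ?_, aeval t G1,
        (hmemR G1), ?_⟩
      · refine ((V.valuation_eq_one_iff ⟨_, hR0V _ (hmemR Kp)⟩).mp ?_ :)
        refine (notMem_maximalIdeal.mp fun hmem => ?_)
        rw [← residue_eq_zero_iff, hev, hKp] at hmem
        obtain ⟨u, v, huv⟩ := hcop
        have := congrArg (aeval τ) huv
        rw [map_add, map_mul, map_mul, minpoly.aeval, hmem, mul_zero, mul_zero, add_zero, map_one] at this
        exact zero_ne_one this
      · have := congrArg (aeval t) hG1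
        rw [map_sub, map_mul, map_mul, map_mul, map_sub, map_pow, aeval_X, aeval_C, aeval_C, htc', sub_self, zero_mul,
          sub_zero] at this
        show aeval t Kp * aeval t F = _
        rw [this]; ring
    have hrep := exists_repr t hgen' V hV.1 htV _ hπ0 (Subalgebra.algebraMap_mem _ _)
      (hV.2 π hπm) hprin
    constructor
    · constructor
      intro z
      obtain ⟨⟨x, hx⟩, rfl⟩ := residue_surjective z
      haveI := IntermediateField.isSeparable_adjoin_simple_iff_isSeparable (ResidueField A) (ResidueField V) |>.mpr hτsep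
      obtain ⟨a, ha, s, hs, hs1, has⟩ := hrep x hx
      obtain ⟨Fa, rfl⟩ := Algebra.adjoin_singleton_eq_range_aeval A t ▸ ha
      obtain ⟨Fs, rfl⟩ := Algebra.adjoin_singleton_eq_range_aeval A t ▸ hs
      have hmem : ∀ F : A[X], aeval τ (F.map (residue A)) ∈ IntermediateField.adjoin (ResidueField A) {τ} := fun F =>
        IntermediateField.algebra_adjoin_le_adjoin _ _ (aeval_mem_adjoin_singleton _ _)
      have hs0 : aeval τ (Fs.map (residue A)) ≠ 0 := by
        rw [← hev, Ne, residue_eq_zero_iff, V.valuation_lt_one_iff]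
        exact not_lt.mpr hs1.ge
      have hval : residue V ⟨x, hx⟩ = aeval τ (Fa.map (residue A)) / aeval τ (Fs.map (residue A)) := by
        rw [eq_div_iff hs0, ← hev, ← hev, ← map_mul]
        exact congrArg (residue V) (Subtype.ext has)
      rw [hval]
      exact mem_separableClosure_iff.mp ((separableClosure (ResidueField A) (ResidueField V)).div_mem
        ((IntermediateField.adjoin_le_iff.mpr (Set.singleton_subset_iff.mpr hτsep) :
          IntermediateField.adjoin (ResidueField A) {τ} ≤ separableClosure _ _) (hmem Fa))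
        ((IntermediateField.adjoin_le_iff.mpr (Set.singleton_subset_iff.mpr hτsep) :
          IntermediateField.adjoin (ResidueField A) {τ} ≤ separableClosure _ _) (hmem Fs)))
    · -- ramification index one
      intro p hp _ hdiv
      have hmaxV : maximalIdeal V = Ideal.span {algebraMap A V π} := by
        refine le_antisymm (fun x hx => ?_) ((Ideal.span_singleton_le_iff_mem _).mpr
          ((V.valuation_lt_one_iff _).mpr (hV.2 π hπm)))
        obtain ⟨a, ha, s, hs, hs1, has⟩ := hrep x x.2
        have ha1 : V.valuation a < 1 := by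
          rw [← has, map_mul, hs1, mul_one]; exact (V.valuation_lt_one_iff x).mp hx
        obtain ⟨s', hs', hs'1, y, hy, hsy⟩ := hprin a ha ha1
        have hunit : IsUnit ((⟨s, hR0V _ hs⟩ : V) * ⟨s', hR0V _ hs'⟩) :=
          IsUnit.mul ((V.valuation_eq_one_iff _).mpr hs1) ((V.valuation_eq_one_iff _).mpr hs'1)
        rw [← Ideal.unit_mul_mem_iff_mem _ hunit, Ideal.mem_span_singleton']
        exact ⟨⟨y, hR0V _ hy⟩, Subtype.ext (by
          show y * algebraMap A L π = s * s' * (x : L)
          rw [← hsy, ← has]; ring)⟩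
      have he : Ideal.ramificationIdx' (maximalIdeal A) (maximalIdeal V) = 1 :=
        (Groth.Agent.EtRamH7.weaklyUnramified_iff A V (Groth.Agent.EtRamH7.injective_cod A K L _ rfl V hV.1)).mp
          (by show _ = _; rw [hπ.maximalIdeal_eq, Ideal.map_span, Set.image_singleton, hmaxV])
      rw [he] at hdiv
      exact hp.one_lt.ne' (Nat.dvd_one.mp hdiv)
  · -- a radical of a uniformiser
    have hcm : c ∈ maximalIdeal A := hm ▸ Ideal.mem_span_singleton_self c
    have hc0 : c ≠ 0 := fun h => IsDiscreteValuationRing.not_a_field A (by rw [hm, h, Ideal.span_singleton_zero])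
    have ht0 : t ≠ 0 := fun h => by
      rw [h, zero_pow hn0] at htc'
      exact hc0 (hinjAL (htc'.symm.trans (map_zero _).symm))
    have ht1 : V.valuation t < 1 := by
      by_contra h
      have := one_le_pow₀ (n := n) (not_lt.mp h)
      rw [← map_pow, htc'] at this
      exact not_lt.mpr this (hV.2 c hcm)
    have htmem : t ∈ Algebra.adjoin A ({t} : Set L) := Algebra.subset_adjoin (Set.mem_singleton t)
    have hconst : ∀ x ∈ Algebra.adjoin A ({t} : Set L),
        ∃ a : A, ∃ y ∈ Algebra.adjoin A ({t} : Set L), x = algebraMap A L a + y * t := fun x hx => by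
      induction hx using Algebra.adjoin_induction with
      | mem z hz => exact ⟨0, 1, one_mem _, by rw [map_zero, zero_add, one_mul]; exact Set.mem_singleton_iff.mp hz⟩
      | algebraMap a => exact ⟨a, 0, zero_mem _, by rw [zero_mul, add_zero]⟩
      | add u v _ _ hu hv =>
        obtain ⟨a, y, hy, rfl⟩ := hu; obtain ⟨b, z, hz, rfl⟩ := hv
        exact ⟨a + b, y + z, add_mem hy hz, by rw [map_add]; ring⟩
      | mul u v hu' _ hu hv =>
        obtain ⟨a, y, hy, rfl⟩ := hu; obtain ⟨b, z, hz, rfl⟩ := hv
        exact ⟨a * b, algebraMap A L b * y + (algebraMap A L a + y * t) * z,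
          add_mem (mul_mem (Subalgebra.algebraMap_mem _ b) hy) (mul_mem hu' hz), by rw [map_mul]; ring⟩
    have hprin : ∀ x ∈ Algebra.adjoin A ({t} : Set L), V.valuation x < 1 →
        ∃ s ∈ Algebra.adjoin A ({t} : Set L), V.valuation s = 1 ∧
          ∃ y ∈ Algebra.adjoin A ({t} : Set L), s * x = y * t := by
      intro x hx hx1
      obtain ⟨a, y, hy, rfl⟩ := hconst x hx
      have ha1 : a ∈ maximalIdeal A := by
        by_contra h
        have h1 := hvu a (notMem_maximalIdeal.mp h)
        have h2 : V.valuation (y * t) < 1 := by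
          rw [map_mul]
          exact lt_of_le_of_lt (mul_le_of_le_one_left' ((V.valuation_le_one_iff _).mpr (hR0V y hy))) ht1
        have h3 : V.valuation (algebraMap A L a + y * t) = V.valuation (algebraMap A L a) :=
          V.valuation.map_add_eq_of_lt_left (h2.trans_eq h1.symm)
        rw [h3, h1] at hx1
        exact lt_irrefl _ hx1
      rw [hm, Ideal.mem_span_singleton'] at ha1
      obtain ⟨a', rfl⟩ := ha1
      have hy' : algebraMap A L a' * t ^ (n - 1) + y ∈ Algebra.adjoin A ({t} : Set L) :=
        add_mem (mul_mem (Subalgebra.algebraMap_mem (Algebra.adjoin A ({t} : Set L)) a') (pow_mem htmem (n - 1))) hy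
      refine ⟨1, one_mem _, map_one _, algebraMap A L a' * t ^ (n - 1) + y, hy', ?_⟩
      rw [one_mul, map_mul, ← htc', add_mul, mul_assoc, ← pow_succ, Nat.sub_add_cancel hn]
    have hrep := exists_repr t hgen' V hV.1 htV t ht0 htmem ht1 hprin
    constructor
    · constructor
      intro z
      obtain ⟨⟨x, hx⟩, rfl⟩ := residue_surjective z
      obtain ⟨a, ha, s, hs, hs1, has⟩ := hrep x hx
      obtain ⟨a', y, hy, rfl⟩ := hconst a ha
      obtain ⟨s', w, hw, rfl⟩ := hconst s hs
      have hres : ∀ (b : A) (v : L) (hv : v ∈ Algebra.adjoin A ({t} : Set L))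
          (hbv : algebraMap A L b + v * t ∈ V), residue V ⟨_, hbv⟩ = residue V (algebraMap A V b) := by
        intro b v hv hbv
        rw [← sub_eq_zero, ← map_sub, residue_eq_zero_iff, V.valuation_lt_one_iff]
        show V.valuation (algebraMap A L b + v * t - algebraMap A L b) < 1
        rw [add_sub_cancel_left, map_mul]
        exact lt_of_le_of_lt (mul_le_of_le_one_left' ((V.valuation_le_one_iff _).mpr (hR0V v hv))) ht1
      have hprod : residue V ⟨x, hx⟩ * residue V (algebraMap A V s') = residue V (algebraMap A V a') := by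
        rw [← hres s' w hw (hR0V _ hs), ← hres a' y hy (hR0V _ ha), ← map_mul]
        exact congrArg (residue V) (Subtype.ext has)
      have hs0 : residue V (algebraMap A V s') ≠ 0 := by
        rw [← hres s' w hw (hR0V _ hs), Ne, residue_eq_zero_iff, V.valuation_lt_one_iff]
        exact not_lt.mpr hs1.ge
      have : residue V ⟨x, hx⟩ = algebraMap (ResidueField A) (ResidueField V) (residue A a' / residue A s') := by
        rw [map_div₀, eq_div_iff (by exact hs0)]
        exact hprod
      rw [this]
      exact isSeparable_algebraMap _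
    · intro p hp hchar hdiv
      have hmaxV : maximalIdeal V = Ideal.span {⟨t, htV⟩} := by
        refine le_antisymm (fun x hx => ?_) ((Ideal.span_singleton_le_iff_mem _).mpr
          ((V.valuation_lt_one_iff _).mpr ht1))
        obtain ⟨a, ha, s, hs, hs1, has⟩ := hrep x x.2
        have ha1 : V.valuation a < 1 := by
          rw [← has, map_mul, hs1, mul_one]; exact (V.valuation_lt_one_iff x).mp hx
        obtain ⟨s', hs', hs'1, y, hy, hsy⟩ := hprin a ha ha1
        have hunit : IsUnit ((⟨s, hR0V _ hs⟩ : V) * ⟨s', hR0V _ hs'⟩) :=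
          IsUnit.mul ((V.valuation_eq_one_iff _).mpr hs1) ((V.valuation_eq_one_iff _).mpr hs'1)
        rw [← Ideal.unit_mul_mem_iff_mem _ hunit, Ideal.mem_span_singleton']
        exact ⟨⟨y, hR0V _ hy⟩, Subtype.ext (by
          show y * t = s * s' * (x : L)
          rw [← hsy, ← has]; ring)⟩
      have hmapn : (maximalIdeal A).map (algebraMap A V) = maximalIdeal V ^ n := by
        rw [hmaxV, Ideal.span_singleton_pow, hm, Ideal.map_span, Set.image_singleton]
        congr 2
        exact Subtype.ext htc'.symm
      have he : Ideal.ramificationIdx' (maximalIdeal A) (maximalIdeal V) = n := by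
        refine Ideal.ramificationIdx'_spec hmapn.le ?_
        rw [hmapn, hmaxV, Ideal.span_singleton_pow, Ideal.span_singleton_pow, Ideal.span_singleton_le_span_singleton]
        rintro ⟨w, hw⟩
        rw [pow_succ, mul_assoc] at hw
        have h1 : (⟨t, htV⟩ : V) * w = 1 := (mul_left_cancel₀ (pow_ne_zero n fun h => ht0 (congrArg Subtype.val h))
          (by rw [mul_one]; exact hw)).symm
        exact ((mem_maximalIdeal _).mp ((V.valuation_lt_one_iff _).mpr ht1)) (IsUnit.of_mul_eq_one w h1)
      rw [he] at hdiv
      haveI := hchar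
      refine (hnu.map (residue A)).ne_zero ?_
      rw [map_natCast]
      exact (CharP.cast_eq_zero_iff (ResidueField A) p n).mpr hdiv

end Groth.Agent.KummerTame25
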