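import Groth.Agent.Lib.KummerTame25.Smooth

/-!
Affine charts of a relative strict normal crossings divisor.
-/

universe u

open CategoryTheory AlgebraicGeometry MvPolynomial

namespace Groth.Agent.KummerTame25

theorem exists_affine_chart {X S : Scheme.{u}} (f : X ⟶ S) {r : ℕ} (φ : Fin r → Γ(X, ⊤))
    (hD : SGA1t.IsRelSNC f φ) (x : X) (hx : Nonempty (SGA1t.vanishingAt φ x)) :
    ∃ (U : S.Opens) (_ : IsAffineOpen U) (V : X.Opens) (_ : IsAffineOpen V) (_ : x ∈ V) (hVU : V ≤ f ⁻¹ᵁ U)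
      (d : ℕ) (w : ULift.{u} (Fin d) → Γ(X, V)) (e : SGA1t.vanishingAt φ x → ULift.{u} (Fin d)),
      Function.Injective e ∧ (eval₂Hom (f.appLE U V hVU).hom w).Etale ∧
        ∀ i, w (e i) = X.presheaf.map (homOfLE le_top).op (φ i.1) := by
  obtain ⟨W, hxW, d, v, e, he, hEt, hv⟩ := hD x hx
  obtain ⟨_, ⟨U, hU, rfl⟩, hfxU, -⟩ :=
    S.isBasis_affineOpens.exists_subset_of_mem_open (Set.mem_univ (f x)) isOpen_univ
  obtain ⟨_, ⟨V, hV, rfl⟩, hxV, hVW⟩ := X.isBasis_affineOpens.exists_subset_of_mem_open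
    (show x ∈ ((W ⊓ f ⁻¹ᵁ U : X.Opens) : Set X) from ⟨hxW, hfxU⟩) (W ⊓ f ⁻¹ᵁ U).2
  have hW : V ≤ W := fun y hy => (hVW hy).1
  have hVU : V ≤ f ⁻¹ᵁ U := fun y hy => (hVW hy).2
  let w : ULift.{u} (Fin d) → Γ(X, V) := fun j => X.presheaf.map (homOfLE hW).op (W.topIso.hom (v j))
  have hw : AffineSpace.homOfVector (Scheme.Opens.ι V ≫ f) (fun j => (Scheme.Opens.topIso V).inv (w j)) =
      X.homOfLE hW ≫ AffineSpace.homOfVector (W.ι ≫ f) v := by
    rw [AffineSpace.comp_homOfVector, Scheme.homOfLE_ι_assoc]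
    congr 1
    funext j
    simp only [w, Function.comp_apply, Scheme.homOfLE_appTop, Scheme.Opens.topIso_inv, Scheme.Opens.topIso_hom,
      eqToHom_op]
    erw [← CommRingCat.comp_apply, ← X.presheaf.map_comp, ← CommRingCat.comp_apply, ← X.presheaf.map_comp]
    rfl
  refine ⟨U, hU, V, hV, hxV, hVU, d, w, fun i => ULift.up (e i), fun i j h => he (congrArg ULift.down h),
    etale_eval₂Hom f hU hV hVU w ?_, fun i => ?_⟩
  · rw [hw]; infer_instance
  · show X.presheaf.map (homOfLE hW).op (W.topIso.hom (v _)) = _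
    rw [hv]
    erw [CategoryTheory.congr_fun W.topIso.inv_hom_id]
    show X.presheaf.map (homOfLE hW).op (X.presheaf.map (homOfLE (le_top : W ≤ ⊤)).op (φ i.1)) = _
    erw [← CommRingCat.comp_apply, ← X.presheaf.map_comp]
    rfl

end Groth.Agent.KummerTame25
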