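import Groth.Prelude.Def_SGA1t
import Mathlib.RingTheory.RingHom.Smooth
import Mathlib.RingTheory.RingHom.Etale
import Mathlib.AlgebraicGeometry.AffineSpace

/-!
Kummer algebras over coordinates of a formally etale chart are formally smooth over the base.
-/

universe u

open CategoryTheory AlgebraicGeometry MvPolynomial

namespace Groth.Agent.KummerTame25

/-- Radicals of coordinates of a formally smooth chart give a formally smooth algebra. -/
theorem kummer_formallySmooth {R A : Type u} [CommRing R] [CommRing A] [Algebra R A] {σ : Type u}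
    (θ : MvPolynomial σ R →ₐ[R] A) (hθ : θ.toRingHom.FormallySmooth) {ι : Type*} (a : ι → A) (e : ι → σ)
    (he : Function.Injective e) (ha : ∀ i, θ (X (e i)) = a i) (n : ι → ℕ) :
    Algebra.FormallySmooth R (SGA1t.kummer A a n) := by
  classical
  refine Algebra.FormallySmooth.iff_comp_surjective.mpr fun B _ _ I hI g => ?_
  let K := SGA1t.kummer A a n
  let T : ι → K := fun i => Ideal.Quotient.mk _ (X i)
  have hT : ∀ i, T i ^ n i = algebraMap A K (a i) := fun i => by
    rw [← map_pow]
    exact Ideal.Quotient.eq.mpr (Ideal.subset_span ⟨i, rfl⟩)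
  choose c hc using fun i => Ideal.Quotient.mk_surjective (g (T i))
  choose z hz using fun j => Ideal.Quotient.mk_surjective (g (algebraMap A K (θ (X j))))
  let w : σ → B := fun j => if h : ∃ i, e i = j then c h.choose ^ n h.choose else z j
  have hwe : ∀ i, w (e i) = c i ^ n i := fun i => by
    have h : ∃ k, e k = e i := ⟨i, rfl⟩
    simp only [w, dif_pos h]
    rw [he h.choose_spec]
  let gA : A →ₐ[R] B ⧸ I := g.comp (IsScalarTower.toAlgHom R A K)
  let h : MvPolynomial σ R →ₐ[R] B := aeval w
  have hhθ : (Ideal.Quotient.mkₐ R I).comp h = gA.comp θ := by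
    refine MvPolynomial.algHom_ext fun j => ?_
    show Ideal.Quotient.mk I (h (X j)) = g (algebraMap A K (θ (X j)))
    rw [aeval_X]
    by_cases hj : ∃ i, e i = j
    · obtain ⟨i, rfl⟩ := hj
      rw [hwe, map_pow, hc, ha, ← hT, map_pow]
    · simp only [w, dif_neg hj]
      exact hz j
  letI : Algebra (MvPolynomial σ R) A := θ.toRingHom.toAlgebra
  letI : Algebra (MvPolynomial σ R) B := h.toRingHom.toAlgebra
  haveI : Algebra.FormallySmooth (MvPolynomial σ R) A := hθ
  let gA' : A →ₐ[MvPolynomial σ R] B ⧸ I :=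
    { gA.toRingHom with commutes' := fun p => (AlgHom.congr_fun hhθ p).symm }
  obtain ⟨k, hk⟩ := Algebra.FormallySmooth.comp_surjective (MvPolynomial σ R) A I hI gA'
  have hkR : ∀ r : R, k (algebraMap R A r) = algebraMap R B r := fun r => by
    have h1 := k.commutes (C r)
    change k (θ (C r)) = h (C r) at h1
    rwa [← algebraMap_eq, θ.commutes, h.commutes] at h1
  have hka : ∀ i, k (a i) = c i ^ n i := fun i => by
    rw [← ha, ← hwe]
    exact (k.commutes (X (e i))).trans (aeval_X w (e i))
  have hkg : ∀ x, Ideal.Quotient.mk I (k x) = g (algebraMap A K x) := fun x => AlgHom.congr_fun hk x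
  have hle : Ideal.span (Set.range fun i => (X i : MvPolynomial ι A) ^ n i - C (a i)) ≤
      RingHom.ker (eval₂Hom k.toRingHom c) := Ideal.span_le.mpr (by
    rintro _ ⟨i, rfl⟩
    rw [SetLike.mem_coe, RingHom.mem_ker, map_sub, map_pow, eval₂Hom_X', eval₂Hom_C]
    exact sub_eq_zero.mpr (hka i).symm)
  let L : K →+* B := Ideal.Quotient.lift _ (eval₂Hom k.toRingHom c) hle
  have hLA : ∀ x, L (algebraMap A K x) = k x := fun x => eval₂Hom_C k.toRingHom c x
  refine ⟨{ L with commutes' := fun r => ?_ }, ?_⟩
  · show L (algebraMap R K r) = _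
    rw [IsScalarTower.algebraMap_apply R A K, hLA, hkR]
  · refine AlgHom.coe_ringHom_injective ?_
    refine Ideal.Quotient.ringHom_ext ?_
    refine MvPolynomial.ringHom_ext (fun x => ?_) (fun i => ?_)
    · show Ideal.Quotient.mk I (L (algebraMap A K x)) = g (algebraMap A K x)
      rw [hLA, hkg]
    · show Ideal.Quotient.mk I (L (T i)) = g (T i)
      rw [show L (T i) = c i from eval₂Hom_X' k.toRingHom c i, hc]

section Stalk

variable {R K : CommRingCat.{u}}

theorem stalkMap_formallySmooth_of_eq {Y : Scheme.{u}} (g : Spec K ⟶ Y) (j : Spec R ⟶ Y) [IsOpenImmersion j]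
    (φ : R ⟶ K) (hφ : φ.hom.FormallySmooth) (hg : g = Spec.map φ ≫ j) (x : Spec K) :
    (g.stalkMap x).hom.FormallySmooth := by
  subst hg
  rw [Scheme.Hom.stalkMap_comp]
  refine (RingHom.FormallySmooth.respectsIso.cancel_left_isIso (j.stalkMap _) ((Spec.map φ).stalkMap x)).mpr ?_
  haveI hQ : (RingHom.toMorphismProperty RingHom.FormallySmooth).RespectsIso :=
    RingHom.toMorphismProperty_respectsIso_iff.mp RingHom.FormallySmooth.respectsIso
  refine ((RingHom.toMorphismProperty RingHom.FormallySmooth).arrow_mk_iso_iff (Scheme.arrowStalkMapSpecIso φ x)).mpr ?_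
  letI := φ.hom.toAlgebra
  haveI : Algebra.FormallySmooth R K := hφ
  letI a2 := (Localization.localRingHom (x.asIdeal.comap φ.hom) x.asIdeal φ.hom rfl).toAlgebra
  haveI : IsScalarTower R (Localization.AtPrime (x.asIdeal.comap φ.hom)) (Localization.AtPrime x.asIdeal) :=
    IsScalarTower.of_algebraMap_eq fun r => by
      show algebraMap R (Localization.AtPrime x.asIdeal) r = Localization.localRingHom _ _ _ _ _
      rw [Localization.localRingHom_to_map, IsScalarTower.algebraMap_apply R K]
      rfl
  haveI : Algebra.FormallySmooth K (Localization.AtPrime x.asIdeal) :=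
    Algebra.FormallySmooth.of_isLocalization x.asIdeal.primeCompl
  haveI : Algebra.FormallySmooth R (Localization.AtPrime x.asIdeal) :=
    Algebra.FormallySmooth.comp R K (Localization.AtPrime x.asIdeal)
  show @Algebra.FormallySmooth _ _ _ _ a2
  exact Algebra.FormallySmooth.localization_base (x.asIdeal.comap φ.hom).primeCompl

end Stalk

section Chart

variable {X S : Scheme.{u}} (f : X ⟶ S) {U : S.Opens} (hU : IsAffineOpen U) {V : X.Opens} (hV : IsAffineOpen V)
  (hVU : V ≤ f ⁻¹ᵁ U) {σ : Type u} (w : σ → Γ(X, V))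

include hU hV in
/-- The ring map of an etale chart on affine opens. -/
theorem etale_eval₂Hom (hw : Etale (AffineSpace.homOfVector (V.ι ≫ f) (fun j => V.topIso.inv (w j)))) :
    (eval₂Hom (f.appLE U V hVU).hom w).Etale := by
  haveI : IsAffine U := hU
  haveI : IsAffine V := hV
  let g := f.resLE U V hVU
  let χ := AffineSpace.homOfVector g (fun j => V.topIso.inv (w j))
  have hcomp : χ ≫ AffineSpace.map σ U.ι = AffineSpace.homOfVector (V.ι ≫ f) (fun j => V.topIso.inv (w j)) := by
    refine AffineSpace.hom_ext ?_ fun i => ?_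
    · rw [Category.assoc, AffineSpace.map_over, AffineSpace.homOfVector_over_assoc,
        AffineSpace.homOfVector_over]
      exact Scheme.Hom.resLE_comp_ι f hVU
    · refine Eq.trans ?_ (AffineSpace.homOfVector_appTop_coord (V.ι ≫ f) _ i).symm
      show χ.appTop ((AffineSpace.map σ U.ι).appTop (AffineSpace.coord S i)) = _
      exact (congrArg χ.appTop (AffineSpace.map_appTop_coord U.ι i)).trans
        (AffineSpace.homOfVector_appTop_coord g _ i)
  haveI : IsOpenImmersion (AffineSpace.map σ U.ι) :=
    MorphismProperty.of_isPullback (P := @IsOpenImmersion) (AffineSpace.isPullback_map U.ι).flip inferInstance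
  haveI : Etale (χ ≫ AffineSpace.map σ U.ι) := by rw [hcomp]; exact hw
  haveI : Etale χ := Etale.of_comp χ (AffineSpace.map σ U.ι)
  have hE : RingHom.Etale (χ ≫ (AffineSpace.isoOfIsAffine σ U).hom).appTop.hom :=
    HasRingHomProperty.appTop (P := @Etale) _ inferInstance
  rw [Scheme.Hom.comp_appTop, AffineSpace.isoOfIsAffine_hom_appTop, Category.assoc, CommRingCat.hom_comp,
    RingHom.Etale.respectsIso.cancel_left_isIso] at hE
  have hθ : CommRingCat.Hom.hom (CommRingCat.ofHom (eval₂Hom ((𝔸(σ; U) ↘ (U : Scheme.{u})).appTop).hom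
      (AffineSpace.coord (U : Scheme.{u}))) ≫ χ.appTop) = V.topIso.inv.hom.comp ((eval₂Hom (f.appLE U V hVU).hom w).comp
        (MvPolynomial.map U.topIso.hom.hom)) := by
    refine MvPolynomial.ringHom_ext (fun r => ?_) (fun i => ?_)
    · rw [CommRingCat.hom_comp, RingHom.comp_apply, RingHom.comp_apply, RingHom.comp_apply, map_C,
        eval₂Hom_C, CommRingCat.hom_ofHom, eval₂Hom_C]
      have h1 : (𝔸(σ; U) ↘ (U : Scheme.{u})).appTop ≫ χ.appTop = U.topIso.hom ≫ f.appLE U V hVU ≫ V.topIso.inv := by
        rw [← Scheme.Hom.comp_appTop, AffineSpace.homOfVector_over]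
        exact Scheme.Hom.resLE_app_top f hVU
      exact CategoryTheory.congr_fun h1 r
    · rw [CommRingCat.hom_comp, RingHom.comp_apply, RingHom.comp_apply, RingHom.comp_apply, map_X,
        eval₂Hom_X', CommRingCat.hom_ofHom, eval₂Hom_X']
      exact AffineSpace.homOfVector_appTop_coord _ _ i
  rw [hθ] at hE
  have h2 := (RingHom.Etale.respectsIso.2 _ (MvPolynomial.mapEquiv σ U.topIso.symm.commRingCatIsoToRingEquiv))
    (RingHom.Etale.respectsIso.1 _ V.topIso.commRingCatIsoToRingEquiv hE)
  convert h2 using 1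
  refine MvPolynomial.ringHom_ext (fun r => ?_) (fun i => ?_)
  · simp only [RingHom.comp_apply, RingEquiv.toRingHom_eq_coe, RingEquiv.coe_toRingHom, mapEquiv_apply, map_C,
      eval₂Hom_C]
    exact ((CategoryTheory.congr_fun V.topIso.inv_hom_id _).trans
      (congrArg (f.appLE U V hVU) (CategoryTheory.congr_fun U.topIso.inv_hom_id r))).symm
  · simp only [RingHom.comp_apply, RingEquiv.toRingHom_eq_coe, RingEquiv.coe_toRingHom, mapEquiv_apply, map_X,
      eval₂Hom_X']
    exact (CategoryTheory.congr_fun V.topIso.inv_hom_id (w i)).symm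

end Chart

end Groth.Agent.KummerTame25
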